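/-
The weighted combination of a parabolic structure as an integral of the real filtration.
-/
import Groth.Prelude.Def_ParBun
import Mathlib.MeasureTheory.Integral.IntervalIntegral.Basic
import Mathlib.MeasureTheory.Measure.Lebesgue.Basic

set_option autoImplicit false
set_option linter.style.haveILetI false
set_option linter.unusedSectionVars false

universe v u

open CategoryTheory CategoryTheory.Limits MeasureTheory

noncomputable section

namespace Groth.L13.ParAt

variable {C : Type u} [Category.{v} C] [HasImages C] [HasBinaryCoproducts C] [HasInitial C] [InitialMonoClass C]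
  {E : C} (𝓔 : ParSh.Str E)

theorem piece_eq_pieceX_castSucc (j : Fin (𝓔.l + 1)) : 𝓔.piece j = 𝓔.pieceX j.castSucc :=
  (𝓔.pieceX_castSucc j).symm

/-- The real filtration is one of the extended pieces. -/
theorem at_cases (a : ℝ) : ∃ i : Fin (𝓔.l + 2), 𝓔.at a = 𝓔.pieceX i ∧
    ∀ j : Fin (𝓔.l + 1), a ≤ 𝓔.wt j ↔ i ≤ j.castSucc := by
  classical
  by_cases h : ∀ j, 𝓔.wt j < a
  · refine ⟨Fin.last _, (𝓔.at_eq_bot h).trans 𝓔.pieceX_last.symm, fun j => ?_⟩
    exact iff_of_false (not_le.2 (h j)) (not_le.2 (Fin.castSucc_lt_last j))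
  · push Not at h
    have hne : (Finset.univ.filter fun j => a ≤ 𝓔.wt j).Nonempty :=
      h.imp fun j hj => Finset.mem_filter.2 ⟨Finset.mem_univ _, hj⟩
    let i := (Finset.univ.filter fun j => a ≤ 𝓔.wt j).min' hne
    have hi : a ≤ 𝓔.wt i := (Finset.mem_filter.1 (Finset.min'_mem _ hne)).2
    have hmin : ∀ j, a ≤ 𝓔.wt j → i ≤ j := fun j hj =>
      Finset.min'_le _ j (Finset.mem_filter.2 ⟨Finset.mem_univ j, hj⟩)
    refine ⟨i.castSucc, ?_, fun j => ?_⟩
    · rw [𝓔.pieceX_castSucc]
      exact 𝓔.at_eq_piece i hi fun j' hj' => not_le.1 fun hc => absurd (hmin j' hc) (not_le.2 hj')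
    · rw [Fin.castSucc_le_castSucc_iff]
      exact ⟨hmin j, fun hij => hi.trans (𝓔.wt_strictMono.monotone hij)⟩

theorem cases_unique {l : ℕ} {p : Fin (l + 1) → Prop} {i i' : Fin (l + 2)} (h : ∀ j, p j ↔ i ≤ j.castSucc)
    (h' : ∀ j, p j ↔ i' ≤ j.castSucc) : i = i' := by
  refine le_antisymm ?_ ?_
  · induction i' using Fin.lastCases with
    | last => exact Fin.le_last _
    | cast j => exact (h j).1 ((h' j).2 le_rfl)
  · induction i using Fin.lastCases with
    | last => exact Fin.le_last _
    | cast j => exact (h' j).1 ((h j).2 le_rfl)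

theorem sum_telescope {l : ℕ} (g : Fin (l + 2) → ℝ) (i : Fin (l + 2)) :
    ∑ j : Fin (l + 1), (if i ≤ j.castSucc then g j.castSucc - g j.succ else 0) = g i - g (Fin.last _) := by
  induction i using Fin.reverseInduction with
  | last => simp
  | cast i ih =>
    have h1 : ∀ j : Fin (l + 1), (if i.castSucc ≤ j.castSucc then g j.castSucc - g j.succ else 0) =
        (if i.succ ≤ j.castSucc then g j.castSucc - g j.succ else 0) + (if j = i then g j.castSucc - g j.succ else 0) := by
      intro j
      simp only [Fin.castSucc_le_castSucc_iff, Fin.succ_le_castSucc_iff]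
      rcases lt_trichotomy i j with hij | rfl | hij
      · rw [if_pos hij.le, if_pos hij, if_neg hij.ne', add_zero]
      · simp
      · rw [if_neg (not_le.2 hij), if_neg (not_lt.2 hij.le), if_neg hij.ne, add_zero]
    rw [Finset.sum_congr rfl fun j _ => h1 j, Finset.sum_add_distrib, ih, Finset.sum_ite_eq' Finset.univ i]
    simp

/-- The value on the real filtration as a step function. -/
def stepFn (f : C → ℝ) (a : ℝ) : ℝ :=
  f (𝓔.bot : C) + ∑ j : Fin (𝓔.l + 1),
    (Set.Iic (𝓔.wt j)).indicator (fun _ => f (𝓔.piece j : C) - f (𝓔.pieceX j.succ : C)) a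

theorem apply_at (f : C → ℝ) (a : ℝ) : f (𝓔.at a : C) = stepFn 𝓔 f a := by
  classical
  obtain ⟨i, hi, hiff⟩ := at_cases 𝓔 a
  rw [hi, stepFn]
  have h := sum_telescope (fun i => f (𝓔.pieceX i : C)) i
  have h2 : ∑ j : Fin (𝓔.l + 1), (Set.Iic (𝓔.wt j)).indicator
      (fun _ => f (𝓔.piece j : C) - f (𝓔.pieceX j.succ : C)) a =
      ∑ j : Fin (𝓔.l + 1), (if i ≤ j.castSucc then f (𝓔.pieceX j.castSucc : C) - f (𝓔.pieceX j.succ : C) else 0) := by
    refine Finset.sum_congr rfl fun j _ => ?_
    rw [Set.indicator_apply, piece_eq_pieceX_castSucc]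
    exact if_congr (hiff j) rfl rfl
  rw [h2, h, 𝓔.pieceX_last]
  ring

theorem wt_mem (j : Fin (𝓔.l + 1)) : 0 ≤ 𝓔.wt j ∧ 𝓔.wt j < 1 :=
  ⟨𝓔.wt_nonneg.trans (𝓔.wt_strictMono.monotone (Fin.zero_le j)),
    (𝓔.wt_strictMono.monotone (Fin.le_last j)).trans_lt 𝓔.wt_lt_one⟩

theorem integrable_indicator (w c : ℝ) :
    IntervalIntegrable ((Set.Iic w).indicator fun _ => c) volume 0 1 := by
  rw [intervalIntegrable_iff]
  exact (integrableOn_const (by simp)).indicator measurableSet_Iic

theorem integrable_stepFn (f : C → ℝ) : IntervalIntegrable (stepFn 𝓔 f) volume 0 1 := by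
  have h := IntervalIntegrable.sum Finset.univ fun j _ =>
    integrable_indicator (𝓔.wt j) (f (𝓔.piece j : C) - f (𝓔.pieceX j.succ : C))
  refine (intervalIntegrable_const (c := f (𝓔.bot : C))).add ?_
  simpa only [Finset.sum_fn] using h

/-- The weighted combination is the integral of the values on the real filtration. -/
theorem parSum_eq_integral (f : C → ℝ) : 𝓔.parSum f = ∫ a in (0 : ℝ)..1, stepFn 𝓔 f a := by
  unfold stepFn
  rw [intervalIntegral.integral_add intervalIntegrable_const (by
      simpa only [Finset.sum_fn] using IntervalIntegrable.sum Finset.univ fun j _ =>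
        integrable_indicator (𝓔.wt j) (f (𝓔.piece j : C) - f (𝓔.pieceX j.succ : C))),
    intervalIntegral.integral_const, intervalIntegral.integral_finsetSum fun j _ => integrable_indicator _ _]
  simp only [sub_zero, one_smul, ParSh.Str.parSum]
  congr 1
  refine Finset.sum_congr rfl fun j _ => ?_
  obtain ⟨h0, h1⟩ := wt_mem 𝓔 j
  rw [intervalIntegral.integral_of_le zero_le_one, setIntegral_indicator measurableSet_Iic, Set.Ioc_inter_Iic,
    min_eq_right h1.le, setIntegral_const, Real.volume_real_Ioc_of_le h0, sub_zero, smul_eq_mul]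

/-- Comparison of the weighted combinations through the real filtrations. -/
theorem parSum_le {E' : C} (𝓕 : ParSh.Str E') (f : C → ℝ)
    (h : ∀ a : ℝ, 0 ≤ a → a ≤ 1 → f (𝓔.at a : C) ≤ f (𝓕.at a : C)) : 𝓔.parSum f ≤ 𝓕.parSum f := by
  rw [parSum_eq_integral, parSum_eq_integral]
  refine intervalIntegral.integral_mono_on zero_le_one (integrable_stepFn 𝓔 f) (integrable_stepFn 𝓕 f) fun a ha => ?_
  rw [← apply_at, ← apply_at]
  exact h a ha.1 ha.2

/-- Comparison with equality only when the values agree. -/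
theorem apply_at_induced [HasPullbacks C] {F : C} (i : F ⟶ E) (a : ℝ) :
    (𝓔.induced i).at a = (Subobject.pullback i).obj (𝓔.at a) := by
  obtain ⟨m, hm, hiff⟩ := at_cases 𝓔 a
  obtain ⟨m', hm', hiff'⟩ := at_cases (𝓔.induced i) a
  have hmm : m' = m := cases_unique (l := 𝓔.l) (p := fun j => a ≤ 𝓔.wt j) hiff' hiff
  rw [hm', hm, hmm]
  induction m using Fin.lastCases with
  | last => exact (𝓔.induced i).pieceX_last.trans (congrArg _ 𝓔.pieceX_last.symm)
  | cast j => exact ((𝓔.induced i).pieceX_castSucc j).trans (congrArg _ (𝓔.pieceX_castSucc j).symm)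

end Groth.L13.ParAt
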