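/-
Parabolic Hilbert polynomials of weighted filtrations: the quotient form and coefficient bounds.
-/
import Groth.Agent.L03.ShStab.Basic
import Groth.Agent.L03.ShStab.Trunc
import Groth.Agent.L00.KFlatBasic
import Groth.Agent.L21.RR.Twist
import Groth.Agent.L22.Inter.Point
import Groth.Agent.L13.KcohNilp
import Groth.Prelude.Def_W4swparbununimodPar
import Mathlib.CategoryTheory.Abelian.CommSq
import Mathlib.Analysis.Polynomial.Basic

set_option autoImplicit false
set_option linter.style.haveILetI false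

universe u

open CategoryTheory CategoryTheory.Limits AlgebraicGeometry Polynomial StabCat

noncomputable section

namespace Groth.L13.ParHilb

variable {X : Scheme.{u}}

/-- The quotient of `E` by `I · E` is supported on the support of `E` and the zero locus of `I`. -/
theorem support_cokernel_twistSub (I : X.IdealSheafData) (E : X.Modules) :
    CohB1.support (cokernel (ParSh.twistSub I E).arrow) ⊆ CohB1.support E ∩ (I.support : Set X) := by
  refine Set.subset_inter (Groth.L21.Mod.support_epi (cokernel.π _)) ?_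
  let f := ParSh.twistMap I E
  let ρ : cokernel f ⟶ cokernel (imageSubobject f).arrow :=
    cokernel.desc f (cokernel.π _) ((congrArg (· ≫ cokernel.π _) (imageSubobject_arrow_comp f)).symm.trans
      (by rw [Category.assoc, cokernel.condition, Limits.comp_zero]))
  haveI : Epi ρ := epi_of_epi_fac (cokernel.π_desc f _ _)
  refine (Groth.L21.Mod.support_epi ρ).trans ?_
  let T := (DCoh.tensorBi (X := X)).obj E
  haveI : T.PreservesZeroMorphisms := Functor.preservesZeroMorphisms_of_preserves_initial_object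
  have hι : KoszTw.tensorMap (𝟙 E) (ClSub.idealModι I) = T.map (ClSub.idealModι I) := by
    show (DCoh.tensorBi.map (𝟙 E)).app _ ≫ T.map _ = _
    rw [CategoryTheory.Functor.map_id]; exact Category.id_comp _
  have hS := Groth.L21.RR.shortExact_idealSeq I
  have hq := hS.gIsCokernel
  let e : cokernel f ≅ T.obj (ClSub.quotMod I) :=
    cokernel.mapIso f (T.map (ClSub.idealModι I)) (Iso.refl _) (SecTwist.unitorR E).symm (by
      show (KoszTw.tensorMap (𝟙 E) (ClSub.idealModι I) ≫ (SecTwist.unitorR E).hom) ≫ _ = 𝟙 _ ≫ _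
      exact (Category.assoc _ _ _).trans ((congrArg (_ ≫ ·) (SecTwist.unitorR E).hom_inv_id).trans
        ((Category.comp_id _).trans (hι.trans (Category.id_comp _).symm)))) ≪≫
    (PreservesCokernel.iso T (ClSub.idealModι I)).symm ≪≫
    T.mapIso (IsColimit.coconePointUniqueUpToIso (cokernelIsCokernel _) hq)
  haveI : Epi e.inv := inferInstance
  exact (Groth.L21.Mod.support_epi e.inv).trans
    ((Groth.L13.KcohNilp.support_tensor_subset E _).trans (Groth.L22.Inter.support_quotMod_subset I))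

/-- Smaller subobjects have larger quotients. -/
theorem exists_epi_cokernel {E : X.Modules} {A B : Subobject E} (h : A ≤ B) :
    ∃ π : cokernel A.arrow ⟶ cokernel B.arrow, Epi π :=
  ⟨cokernel.desc _ (cokernel.π B.arrow)
    (by rw [← Subobject.ofLE_arrow h, Category.assoc, cokernel.condition, Limits.comp_zero]),
    epi_of_epi_fac (cokernel.π_desc _ _ _)⟩

theorem support_cokernel_pieceX {I : X.IdealSheafData} {E : X.Modules} {𝓔 : ParSh.Str E} (h : 𝓔.Along I)
    (j : Fin (𝓔.l + 2)) :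
    CohB1.support (cokernel (𝓔.pieceX j).arrow) ⊆ CohB1.support E ∩ (I.support : Set X) := by
  obtain ⟨π, hπ⟩ := exists_epi_cokernel (𝓔.bot_le_pieceX j)
  refine (Groth.L21.Mod.support_epi π).trans ?_
  rw [h]
  exact support_cokernel_twistSub I E

theorem pieceX_induced {E W : X.Modules} (𝓔 : ParSh.Str E) (ι : W ⟶ E) (j : Fin (𝓔.l + 2)) :
    (𝓔.induced ι).pieceX j = (Subobject.pullback ι).obj (𝓔.pieceX j) := by
  induction j using Fin.lastCases with
  | last => exact (𝓔.induced ι).pieceX_last.trans (congrArg _ 𝓔.pieceX_last.symm)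
  | cast j => exact ((𝓔.induced ι).pieceX_castSucc j).trans (congrArg _ (𝓔.pieceX_castSucc j).symm)

theorem support_cokernel_induced {E W : X.Modules} (𝓔 : ParSh.Str E) (ι : W ⟶ E) (j : Fin (𝓔.l + 2)) :
    CohB1.support (cokernel ((𝓔.induced ι).pieceX j).arrow) ⊆ CohB1.support (cokernel (𝓔.pieceX j).arrow) := by
  rw [pieceX_induced]
  have sq := (Subobject.isPullback ι (𝓔.pieceX j)).flip
  haveI := Abelian.mono_cokernel_map_of_isPullback sq
  exact Groth.L21.Mod.support_mono (cokernel.map _ _ _ _ sq.w)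

theorem pieceX_zero {E : X.Modules} (𝓔 : ParSh.Str E) : 𝓔.pieceX 0 = ⊤ :=
  (𝓔.pieceX_castSucc 0).trans 𝓔.piece_zero

theorem pieceX_anti {E : X.Modules} (𝓔 : ParSh.Str E) : Antitone 𝓔.pieceX := by
  intro i j hij
  induction j using Fin.lastCases with
  | last => rw [𝓔.pieceX_last]; exact 𝓔.bot_le_pieceX i
  | cast j =>
    induction i using Fin.lastCases with
    | last => exact absurd hij (not_le.2 (Fin.castSucc_lt_last j))
    | cast i => simpa using 𝓔.piece_anti (Fin.castSucc_le_castSucc_iff.1 hij)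

theorem wtX_step_nonneg {E : X.Modules} (𝓔 : ParSh.Str E) (j : Fin (𝓔.l + 1)) :
    0 ≤ 𝓔.wtX j.succ - 𝓔.wtX j.castSucc := by
  rw [sub_nonneg]
  induction j using Fin.lastCases with
  | last => rw [Fin.succ_last, 𝓔.wtX_last, 𝓔.wtX_castSucc]; exact 𝓔.wt_lt_one.le
  | cast j =>
    rw [Fin.succ_castSucc, 𝓔.wtX_castSucc, 𝓔.wtX_castSucc]
    exact 𝓔.wt_strictMono.monotone (Fin.castSucc_lt_succ.le)

theorem sum_wtX_step {E : X.Modules} (𝓔 : ParSh.Str E) :
    ∑ j : Fin (𝓔.l + 1), (𝓔.wtX j.succ - 𝓔.wtX j.castSucc) = 1 - 𝓔.wtX 0 := by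
  rw [Finset.sum_sub_distrib]
  have h1 := Fin.sum_univ_succ 𝓔.wtX
  have h2 := Fin.sum_univ_castSucc 𝓔.wtX
  rw [𝓔.wtX_last] at h2
  linarith

theorem parPoly_eq {E : X.Modules} (𝓔 : ParSh.Str E) (P : ℚ[X]) (PX H : Fin (𝓔.l + 2) → ℚ[X])
    (h : ∀ j, PX j = P - H j) (h0 : H 0 = 0) :
    W4swparbununimod.parPoly 𝓔 PX = W4swparbununimod.rpoly P -
      ∑ j : Fin (𝓔.l + 1), Polynomial.C (𝓔.wtX j.succ - 𝓔.wtX j.castSucc) * W4swparbununimod.rpoly (H j.succ) := by
  let g : Fin (𝓔.l + 2) → ℝ[X] := fun j => Polynomial.C (𝓔.wtX j) * W4swparbununimod.rpoly (H j)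
  have h1 := Fin.sum_univ_succ g
  have h2 := Fin.sum_univ_castSucc g
  have hg0 : g 0 = 0 := by simp [g, h0]
  have hgl : g (Fin.last (𝓔.l + 1)) = W4swparbununimod.rpoly (H (Fin.last _)) := by simp [g]
  simp only [W4swparbununimod.parPoly, h, Polynomial.map_sub, sub_sub_sub_cancel_left, mul_sub, map_sub, sub_mul,
    Finset.sum_sub_distrib]
  rw [hg0, zero_add] at h1
  rw [hgl, h1] at h2
  simp only [g, 𝓔.wtX_castSucc] at h2 ⊢
  linear_combination h2

theorem isCoh_cokernel (k : Type u) [Field k] [X.Over (Spec (CommRingCat.of k))] [IsProper (X ↘ Spec (CommRingCat.of k))] {E : X.Modules} (hE : Coh.IsCoh E) {A : Subobject E} (hA : Coh.IsCoh (A : X.Modules)) :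
    Coh.IsCoh (cokernel A.arrow) := by
  haveI : IsLocallyNoetherian X := LocallyOfFiniteType.isLocallyNoetherian (X ↘ Spec (CommRingCat.of k))
  exact (Groth.L03.ShStab.Basic.coh_parts k hA hE A.arrow).2.2

/-- The pieces of an induced filtration are coherent. -/
theorem isCoh_pieceX_induced (k : Type u) [Field k] [X.Over (Spec (CommRingCat.of k))] [IsProper (X ↘ Spec (CommRingCat.of k))] {E W : X.Modules} (hE : Coh.IsCoh E) (𝓔 : ParSh.Str E)
    (hcoh : ∀ j, Coh.IsCoh ((𝓔.pieceX j : Subobject E) : X.Modules)) (ι : W ⟶ E) (hW : Coh.IsCoh W)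
    (j : Fin (𝓔.l + 2)) : Coh.IsCoh (((𝓔.induced ι).pieceX j : Subobject W) : X.Modules) := by
  haveI : IsLocallyNoetherian X := LocallyOfFiniteType.isLocallyNoetherian (X ↘ Spec (CommRingCat.of k))
  rw [pieceX_induced]
  have sq := (Subobject.isPullback ι (𝓔.pieceX j)).flip
  haveI := Abelian.mono_cokernel_map_of_isPullback sq
  let A := (Subobject.pullback ι).obj (𝓔.pieceX j)
  have hk := (Groth.L03.ShStab.Basic.coh_parts k hW (isCoh_cokernel k hE (hcoh j))
    (ι ≫ cokernel.π (𝓔.pieceX j).arrow)).1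
  refine Groth.L16.CohSupport.isCoh_of_iso ?_ hk
  exact kernelIsoOfEq (cokernel.π_desc _ _ _).symm ≪≫ kernelCompMono (cokernel.π A.arrow) (cokernel.map _ _ _ _ sq.w) ≪≫
    (kernelIsKernel _).conePointUniqueUpToIso (Abelian.monoIsKernelOfCokernel _ (cokernelIsCokernel A.arrow))

variable {k : Type u} [Field k] [X.Over (Spec (CommRingCat.of k))] [IsProper (X ↘ Spec (CommRingCat.of k))]
  {L : X.Modules}

variable (k) in
theorem exists_hilb' (hL : CohB1.IsAmple L) {M : X.Modules} (hM : Coh.IsCoh M) :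
    ∃ P, _root_.ShStab.IsHilbPoly k X L M P := by
  obtain ⟨e, he⟩ := Groth.L03.Euler.exists_dim_bound k X
  exact Groth.L03.ShStab.Basic.exists_hilb hL.1 hM ((Topology.IsInducing.subtypeVal.topologicalKrullDim_le).trans he)

theorem piece_eq_sub (hL : CohB1.IsAmple L) {E : X.Modules} (hE : Coh.IsCoh E) {A : Subobject E}
    (hA : Coh.IsCoh (A : X.Modules)) {P PA H : ℚ[X]} (hP : _root_.ShStab.IsHilbPoly k X L E P)
    (hPA : _root_.ShStab.IsHilbPoly k X L (A : X.Modules) PA)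
    (hH : _root_.ShStab.IsHilbPoly k X L (cokernel A.arrow) H) : PA = P - H := by
  rw [Groth.L03.ShStab.Basic.hilb_cokernel hL hA hE A.arrow hPA hP hH, add_sub_cancel_right]

theorem hilb_quot_zero (hL : CohB1.IsAmple L) {E : X.Modules} (𝓔 : ParSh.Str E) {H : ℚ[X]}
    (hH : _root_.ShStab.IsHilbPoly k X L (cokernel (𝓔.pieceX 0).arrow) H) : H = 0 := by
  refine Groth.L03.Euler.isHilbPoly_unique hH (Groth.L03.Euler.isHilbPoly_zero hL.1 ?_)
  rw [pieceX_zero]
  haveI : IsIso (⊤ : Subobject E).arrow := Subobject.isIso_top_arrow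
  exact isZero_cokernel_of_epi _

theorem eval_parPoly {E : X.Modules} (𝓔 : ParSh.Str E) (PX : Fin (𝓔.l + 2) → ℚ[X])
    (hPX : ∀ j, _root_.ShStab.IsHilbPoly k X L ((𝓔.pieceX j : Subobject E) : X.Modules) (PX j)) (m : ℕ) :
    (W4swparbununimod.parPoly 𝓔 PX).eval (m : ℝ) = 𝓔.parHilb k X L m := by
  have h : ∀ j, (W4swparbununimod.rpoly (PX j)).eval (m : ℝ) =
      (Curv2.euler k X (_root_.ShStab.twist X L ((𝓔.pieceX j : Subobject E) : X.Modules) m) : ℝ) := fun j => by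
    rw [Polynomial.eval_map, ← map_natCast (Rat.castHom ℝ) m, Polynomial.eval₂_at_apply, ← hPX j m]
    simp
  simp only [W4swparbununimod.parPoly, ParSh.Str.parHilb, ParSh.Str.parSum, eval_add, eval_finsetSum, eval_mul,
    eval_sub, eval_C, h]
  rw [𝓔.pieceX_last]
  congr 1
  exact Finset.sum_congr rfl fun j _ => by rw [𝓔.pieceX_castSucc]

theorem add_one_le_of_lt {t : WithBot ℕ∞} {d n : ℕ} (h : t < (d : WithBot ℕ∞)) (hn : d ≤ n) :
    t + 1 ≤ (n : WithBot ℕ∞) := by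
  induction t using WithBot.recBotCoe with
  | bot => simp
  | coe t =>
    change ((t + 1 : ℕ∞) : WithBot ℕ∞) ≤ ((n : ℕ∞) : WithBot ℕ∞)
    rw [WithBot.coe_le_coe]
    have h' : t < (d : ℕ∞) := WithBot.coe_lt_coe.1 h
    exact (Order.add_one_le_of_lt h').trans (by exact_mod_cast hn)

theorem le_pred_of_lt {t : WithBot ℕ∞} {d : ℕ} (h : t < (d : WithBot ℕ∞)) (hd : 1 ≤ d) :
    t ≤ ((d - 1 : ℕ) : WithBot ℕ∞) := by
  induction t using WithBot.recBotCoe with
  | bot => exact bot_le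
  | coe t =>
    change (t : WithBot ℕ∞) ≤ (((d - 1 : ℕ) : ℕ∞) : WithBot ℕ∞)
    rw [WithBot.coe_le_coe]
    have h' : t < (d : ℕ∞) := WithBot.coe_lt_coe.1 h
    obtain ⟨t, rfl⟩ : ∃ i : ℕ, (i : ℕ∞) = t := ENat.ne_top_iff_exists.1 h'.ne_top
    have : t < d := by exact_mod_cast h'
    exact_mod_cast (show t ≤ d - 1 by omega)

theorem coeff_quot_zero (hL : CohB1.IsAmple L) {M : X.Modules} (hM : Coh.IsCoh M) {S : Set X}
    (hS : CohB1.support M ⊆ S) {d n : ℕ} (h : topologicalKrullDim S < (d : WithBot ℕ∞)) (hn : d ≤ n) {H : ℚ[X]}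
    (hH : _root_.ShStab.IsHilbPoly k X L M H) : H.coeff n = 0 :=
  Groth.L03.Euler.coeff_eq_zero_of_dim_lt hL.1 hM
    (add_one_le_of_lt ((Groth.L03.Euler.topologicalKrullDim_set_mono hS).trans_lt h) hn) hH

theorem dim_quot_le {M : X.Modules} {S : Set X} (hS : CohB1.support M ⊆ S) {d : ℕ}
    (h : topologicalKrullDim S < (d : WithBot ℕ∞)) (hd : 1 ≤ d) :
    topologicalKrullDim (CohB1.support M) ≤ ((d - 1 : ℕ) : WithBot ℕ∞) :=
  le_pred_of_lt ((Groth.L03.Euler.topologicalKrullDim_set_mono hS).trans_lt h) hd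

/-- The top coefficient of the quotients grows along the filtration. -/
theorem coeff_quot_mono (hL : CohB1.IsAmple L) {I : X.IdealSheafData} {E : X.Modules} (hE : Coh.IsCoh E)
    {𝓔 : ParSh.Str E} (h𝓔 : 𝓔.Along I) (hcoh : ∀ j, Coh.IsCoh ((𝓔.pieceX j : Subobject E) : X.Modules))
    {d : ℕ} (hd : 1 ≤ d) (hsupp : topologicalKrullDim ↥(CohB1.support E ∩ (I.support : Set X)) < (d : WithBot ℕ∞))
    {i j : Fin (𝓔.l + 2)} (hij : i ≤ j) {Hi Hj : ℚ[X]}
    (hi : _root_.ShStab.IsHilbPoly k X L (cokernel (𝓔.pieceX i).arrow) Hi)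
    (hj : _root_.ShStab.IsHilbPoly k X L (cokernel (𝓔.pieceX j).arrow) Hj) :
    Hi.coeff (d - 1) ≤ Hj.coeff (d - 1) := by
  obtain ⟨π, hπ⟩ := exists_epi_cokernel (pieceX_anti 𝓔 hij)
  have hcj := isCoh_cokernel k hE (hcoh j)
  have hci := isCoh_cokernel k hE (hcoh i)
  have hdim := dim_quot_le ((Groth.L21.Mod.support_mono (kernel.ι π)).trans (support_cokernel_pieceX h𝓔 j)) hsupp hd
  have hck := (Groth.L03.ShStab.Basic.coh_parts k hcj hci π).1
  obtain ⟨K, hK⟩ := Groth.L03.ShStab.Basic.exists_hilb (k := k) hL.1 hck hdim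
  have e := Groth.L03.Euler.isHilbPoly_map hL.1 hcj hci π hj hi hK
    (Groth.L03.Euler.isHilbPoly_zero hL.1 (isZero_cokernel_of_epi π))
  have h0 := Groth.L03.ShStab.PolyOrd.alpha_nonneg_iff.1 (Groth.L03.ShStab.Basic.alpha_nonneg hL hck hdim hK)
  rw [sub_zero] at e
  rw [← e, coeff_sub] at h0
  linarith

theorem coeff_parPoly_of_eq {E : X.Modules} (𝓔 : ParSh.Str E) (P : ℚ[X]) (PX H : Fin (𝓔.l + 2) → ℚ[X])
    (h : ∀ j, PX j = P - H j) (h0 : H 0 = 0) (n : ℕ) :
    (W4swparbununimod.parPoly 𝓔 PX).coeff n = (P.coeff n : ℝ) -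
      ∑ j : Fin (𝓔.l + 1), (𝓔.wtX j.succ - 𝓔.wtX j.castSucc) * ((H j.succ).coeff n : ℝ) := by
  simp only [parPoly_eq 𝓔 P PX H h h0, coeff_sub, finsetSum_coeff, coeff_C_mul, coeff_map]
  rfl

variable (k) in
/-- The quotient form of the parabolic Hilbert polynomial, for pieces with given polynomials. -/
theorem exists_quot_hilb (hL : CohB1.IsAmple L) {E : X.Modules} (hE : Coh.IsCoh E) (𝓔 : ParSh.Str E)
    (hcoh : ∀ j, Coh.IsCoh ((𝓔.pieceX j : Subobject E) : X.Modules))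
    {P : ℚ[X]} (hP : _root_.ShStab.IsHilbPoly k X L E P) {PX : Fin (𝓔.l + 2) → ℚ[X]}
    (hPX : ∀ j, _root_.ShStab.IsHilbPoly k X L ((𝓔.pieceX j : Subobject E) : X.Modules) (PX j)) :
    ∃ H : Fin (𝓔.l + 2) → ℚ[X], (∀ j, _root_.ShStab.IsHilbPoly k X L (cokernel (𝓔.pieceX j).arrow) (H j)) ∧
      (∀ j, PX j = P - H j) ∧ H 0 = 0 := by
  choose H hH using fun j => exists_hilb' k hL (isCoh_cokernel k hE (hcoh j))
  exact ⟨H, hH, fun j => piece_eq_sub hL hE (hcoh j) hP (hPX j) (hH j), hilb_quot_zero hL 𝓔 (hH 0)⟩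

theorem natDegree_parPoly_le {E : X.Modules} (𝓔 : ParSh.Str E) (P : ℚ[X]) (PX H : Fin (𝓔.l + 2) → ℚ[X])
    (h : ∀ j, PX j = P - H j) (h0 : H 0 = 0) {d : ℕ} (hP : P.natDegree ≤ d)
    (hH : ∀ (j : Fin (𝓔.l + 2)) (n : ℕ), d ≤ n → (H j).coeff n = 0) :
    (W4swparbununimod.parPoly 𝓔 PX).natDegree ≤ d := by
  rw [natDegree_le_iff_coeff_eq_zero]
  intro n hn
  rw [coeff_parPoly_of_eq 𝓔 P PX H h h0, coeff_eq_zero_of_natDegree_lt (hP.trans_lt hn)]
  simp [hH _ n hn.le]

theorem coeff_parPoly_top {E : X.Modules} (𝓔 : ParSh.Str E) (P : ℚ[X]) (PX H : Fin (𝓔.l + 2) → ℚ[X])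
    (h : ∀ j, PX j = P - H j) (h0 : H 0 = 0) {n : ℕ} (hH : ∀ j : Fin (𝓔.l + 2), (H j).coeff n = 0) :
    (W4swparbununimod.parPoly 𝓔 PX).coeff n = (P.coeff n : ℝ) := by
  rw [coeff_parPoly_of_eq 𝓔 P PX H h h0]
  simp [hH]

theorem eventually_pos_of_coeff {R : ℝ[X]} {e : ℕ} (hR : R.natDegree ≤ e) (h : 0 < R.coeff e) :
    ∃ M : ℕ, ∀ m : ℕ, M ≤ m → 0 < R.eval (m : ℝ) := by
  have hd : R.natDegree = e := le_antisymm hR (le_natDegree_of_ne_zero h.ne')
  have hlc : 0 < R.leadingCoeff := by rwa [leadingCoeff, hd]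
  have h1 : ∀ᶠ x : ℝ in Filter.atTop, 0 < R.eval x := by
    rcases Nat.eq_zero_or_pos e with rfl | he
    · rw [eq_C_of_natDegree_le_zero hR]
      exact Filter.Eventually.of_forall fun x => by simpa using h
    · exact ((R.tendsto_atTop_iff_leadingCoeff_nonneg.2 ⟨natDegree_pos_iff_degree_pos.1 (hd ▸ he), hlc.le⟩).eventually_gt_atTop 0)
  exact Filter.eventually_atTop.1 (tendsto_natCast_atTop_atTop.eventually h1)

theorem coeff_nonneg_of_eventually {R : ℝ[X]} {e : ℕ} (hR : R.natDegree ≤ e)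
    (h : ∃ M : ℕ, ∀ m : ℕ, M ≤ m → 0 ≤ R.eval (m : ℝ)) : 0 ≤ R.coeff e := by
  by_contra hc
  obtain ⟨M, hM⟩ := h
  obtain ⟨N, hN⟩ := eventually_pos_of_coeff (R := -R) (e := e) (by rwa [natDegree_neg]) (by simpa using hc)
  have h1 := hN (max M N) (le_max_right _ _)
  rw [eval_neg, neg_pos] at h1
  exact absurd (hM (max M N) (le_max_left _ _)) (not_le.2 h1)

theorem tendsto_eval_div_pow {P : ℝ[X]} {e : ℕ} (hP : P.natDegree ≤ e) :
    Filter.Tendsto (fun n : ℕ => P.eval (n : ℝ) / (n : ℝ) ^ e) Filter.atTop (nhds (P.coeff e)) := by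
  have h1 : ∀ n : ℕ, P.eval (n : ℝ) / (n : ℝ) ^ e =
      ∑ i ∈ Finset.range (e + 1), P.coeff i * ((n : ℝ) ^ i / (n : ℝ) ^ e) := fun n => by
    rw [eval_eq_sum_range' (Nat.lt_succ_of_le hP), Finset.sum_div]
    exact Finset.sum_congr rfl fun i _ => mul_div_assoc _ _ _
  simp only [h1]
  rw [show P.coeff e = ∑ i ∈ Finset.range (e + 1), P.coeff i * (if i = e then 1 else 0) by simp]
  refine tendsto_finsetSum _ fun i hi => Filter.Tendsto.const_mul _ ?_
  split_ifs with hie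
  · subst hie
    refine tendsto_const_nhds.congr' ?_
    filter_upwards [Filter.eventually_ne_atTop 0] with n hn
    rw [div_self (pow_ne_zero _ (Nat.cast_ne_zero.2 hn))]
  · exact (tendsto_pow_div_pow_atTop_zero (lt_of_le_of_ne (Nat.lt_succ_iff.1 (Finset.mem_range.1 hi)) hie)).comp
      tendsto_natCast_atTop_atTop

end Groth.L13.ParHilb
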