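/-
The bottom piece `I · E` as the kernel of `E → E ⊗ O_D`, and submodules of modules supported at points.
-/
import Groth.Agent.L13.GPar.Hom
import Groth.Agent.L22.Reg.Cx
import Groth.Agent.L21.RR.Finite
import Groth.Agent.L16.Devissage
import Groth.Agent.L17.CohClass
import Groth.Prelude.Def_ParBun
import Mathlib.CategoryTheory.Abelian.Exact

set_option autoImplicit false
set_option linter.style.haveILetI false
set_option linter.unusedSectionVars false
set_option backward.isDefEq.respectTransparency false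

universe u

open CategoryTheory CategoryTheory.Limits AlgebraicGeometry

noncomputable section

namespace Groth.L13.ParBot

open Groth.L21.RR (SuppClosed hk e0)
open Groth.L00.Tensor (tensorUnitRight tensorMap)

variable {X : Scheme.{u}}

theorem imageSubobject_epi_comp {A B C : X.Modules} (h : A ⟶ B) [Epi h] (f : B ⟶ C) :
    imageSubobject (h ≫ f) = imageSubobject f := by
  haveI : IsIso (Subobject.ofLE _ _ (imageSubobject_comp_le h f)) := isIso_of_mono_of_epi _
  exact le_antisymm (imageSubobject_comp_le h f)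
    (Subobject.le_of_comm (inv (Subobject.ofLE _ _ (imageSubobject_comp_le h f)))
      (by rw [IsIso.inv_comp_eq, Subobject.ofLE_arrow]))

theorem pullback_kernelSubobject {A B C : X.Modules} (ι : A ⟶ B) (g : B ⟶ C) :
    (Subobject.pullback ι).obj (kernelSubobject g) = kernelSubobject (ι ≫ g) := by
  have sq := Subobject.isPullback ι (kernelSubobject g)
  refine le_antisymm (le_kernelSubobject _ _ ?_) ?_
  · rw [← Category.assoc, ← sq.w, Category.assoc, kernelSubobject_arrow_comp, Limits.comp_zero]
  · exact Subobject.le_of_comm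
      (sq.lift (factorThruKernelSubobject g ((kernelSubobject (ι ≫ g)).arrow ≫ ι)
        (by rw [Category.assoc, kernelSubobject_arrow_comp]))
        (kernelSubobject (ι ≫ g)).arrow (by rw [factorThruKernelSubobject_comp_arrow]))
      (sq.lift_snd _ _ _)

/-- The projection `E → E ⊗ O_D`. -/
def proj (I : X.IdealSheafData) (E : X.Modules) : E ⟶ ParSh.resD I E :=
  (tensorUnitRight E).inv ≫ tensorMap (𝟙 E) (ClSub.toSubscheme I)

theorem proj_natural (I : X.IdealSheafData) {E F : X.Modules} (g : E ⟶ F) :
    g ≫ proj I F = proj I E ≫ (Groth.L13.GPar.R I).map g := by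
  show g ≫ (tensorUnitRight F).inv ≫ tensorMap (𝟙 F) (ClSub.toSubscheme I) =
    ((tensorUnitRight E).inv ≫ tensorMap (𝟙 E) (ClSub.toSubscheme I)) ≫ tensorMap g (𝟙 (ClSub.quotMod I))
  have h : g ≫ (tensorUnitRight F).inv = (tensorUnitRight E).inv ≫ tensorMap g (𝟙 (Coh.structureModule X)) := by
    rw [Iso.eq_inv_comp, ← Category.assoc, ← Groth.L22.Reg.tensorUnitRight_natural, Category.assoc, Iso.hom_inv_id,
      Category.comp_id]
  rw [← Category.assoc, h, Category.assoc, Category.assoc, ← Groth.L00.Tensor.tensorMap_comp,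
    ← Groth.L00.Tensor.tensorMap_comp, Category.comp_id, Category.id_comp, Category.id_comp, Category.comp_id]

theorem tensorMap_id_left (E : X.Modules) {A B : X.Modules} (g : A ⟶ B) :
    tensorMap (𝟙 E) g = ((DCoh.tensorBi (X := X)).obj E).map g :=
  (Groth.L03.Euler.tensorBi_obj_map E g).symm

theorem twistMap_eq (I : X.IdealSheafData) (E : X.Modules) :
    ParSh.twistMap I E = Groth.L22.Reg.mu (ClSub.idealModι I) E := by
  show KoszTw.tensorMap (𝟙 E) (ClSub.idealModι I) ≫ (SecTwist.unitorR E).hom =
    tensorMap (𝟙 E) (ClSub.idealModι I) ≫ (tensorUnitRight E).hom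
  refine congrArg₂ (· ≫ ·) ?_ rfl
  rw [tensorMap_id_left]
  show (DCoh.tensorBi.map (𝟙 E)).app _ ≫ _ = _
  rw [CategoryTheory.Functor.map_id]; exact Category.id_comp _

theorem twistMap_natural (I : X.IdealSheafData) {E F : X.Modules} (g : E ⟶ F) :
    (Groth.L00.Tensor.tensorRightF (ClSub.idealMod I)).map g ≫ ParSh.twistMap I F = ParSh.twistMap I E ≫ g := by
  rw [twistMap_eq, twistMap_eq]
  exact Groth.L22.Reg.mu_natural (ClSub.idealModι I) g

theorem epi_proj (I : X.IdealSheafData) (E : X.Modules) : Epi (proj I E) := by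
  haveI := Groth.L21.RR.epi_toSubscheme I
  rw [proj, tensorMap_id_left]
  haveI : Epi (((DCoh.tensorBi (X := X)).obj E).map (ClSub.toSubscheme I)) := inferInstance
  exact epi_comp _ _

/-- `I · E` is the kernel of the projection. -/
theorem twistSub_eq (I : X.IdealSheafData) (E : X.Modules) : ParSh.twistSub I E = kernelSubobject (proj I E) := by
  let T := (DCoh.tensorBi (X := X)).obj E
  haveI : T.PreservesZeroMorphisms := Functor.preservesZeroMorphisms_of_preserves_initial_object
  have hS := Groth.L21.RR.shortExact_idealSeq I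
  have hex : ((Groth.L21.RR.idealSeq I).map T).Exact :=
    ShortComplex.exact_of_g_is_cokernel _ (CokernelCofork.mapIsColimit _ hS.gIsCokernel T)
  have w : ParSh.twistMap I E ≫ proj I E = 0 := by
    rw [twistMap_eq, Groth.L22.Reg.mu, proj, Category.assoc, Iso.hom_inv_id_assoc, tensorMap_id_left,
      tensorMap_id_left, ← Functor.map_comp]
    exact (congrArg T.map (kernel.condition _)).trans (T.map_zero _ _)
  have h2 : (ShortComplex.mk _ _ w).Exact := by
    refine (ShortComplex.exact_iff_of_iso ?_).1 hex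
    refine ShortComplex.isoMk (Iso.refl _) (tensorUnitRight E) (Iso.refl _) ?_ ?_
    · refine (Category.id_comp _).trans ?_
      exact (twistMap_eq I E).trans (congrArg (· ≫ (tensorUnitRight E).hom) (tensorMap_id_left E _))
    · show _ ≫ proj I E = T.map (ClSub.toSubscheme I) ≫ 𝟙 _
      exact ((tensorUnitRight E).hom_inv_id_assoc _).trans ((tensorMap_id_left E _).trans (Category.comp_id _).symm)
  exact (ShortComplex.exact_iff_image_eq_kernel (ShortComplex.mk _ _ w)).1 h2

theorem image_twistSub (I : X.IdealSheafData) {E V : X.Modules} (q : E ⟶ V) [Epi q] :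
    imageSubobject ((ParSh.twistSub I E).arrow ≫ q) = ParSh.twistSub I V := by
  haveI : PreservesColimitsOfSize.{0, 0} (Groth.L00.Tensor.tensorRightF (ClSub.idealMod I)) :=
    preservesColimitsOfSize_shrink.{0, u, 0, u} _
  haveI : Epi ((Groth.L00.Tensor.tensorRightF (ClSub.idealMod I)).map q) := inferInstance
  show imageSubobject ((imageSubobject (ParSh.twistMap I E)).arrow ≫ q) = imageSubobject (ParSh.twistMap I V)
  rw [← imageSubobject_epi_comp (factorThruImageSubobject (ParSh.twistMap I E)), imageSubobject_arrow_comp_assoc,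
    ← twistMap_natural, imageSubobject_epi_comp]

variable (k : Type u) [Field k] [X.Over (Spec (CommRingCat.of k))] [IsProper (X ↘ Spec (CommRingCat.of k))]

include k in
/-- Submodules of coherent modules supported at closed points are coherent. -/
theorem isCoh_of_mono_suppClosed {M T : X.Modules} (i : M ⟶ T) [Mono i] (hT : Coh.IsCoh T) (hs : SuppClosed T) :
    Coh.IsCoh M := by
  classical
  haveI := Groth.L21.RR.isNoetherian_of_proper (X := X) k
  have hsM := Groth.L13.GPar.suppClosed_sub i hs
  haveI := Groth.L21.RR.finite_HH' k hT 0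
  haveI : Module.Finite k (Coh.HH X M 0) :=
    Module.Finite.of_injective (hk k i 0) (Groth.L21.RR.injective_hmap_zero i)
  have key : ∀ S : Finset (Coh.HH X M 0), ∃ (N : X.Modules) (ψ : N ⟶ M), Coh.IsCoh N ∧
      ∀ x ∈ S, x ∈ LinearMap.range (hk k ψ 0) := by
    intro S
    induction S using Finset.induction with
    | empty => exact ⟨_, 0, (Groth.L03.ShStab.Basic.coh_parts k hT hT (𝟙 T)).1, by simp⟩
    | insert x S hx ih =>
      obtain ⟨N, ψ, hN, hψ⟩ := ih
      obtain ⟨φ, hφ⟩ := Groth.L21.RR.exists_hom_of_hh0 x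
      refine ⟨_, biprod.desc φ ψ,
        Groth.L16.Devissage.isCoh_biprod (Groth.L16.CohClosedPush.isCoh_structure (X := X)) hN, fun y hy => ?_⟩
      rcases Finset.mem_insert.1 hy with rfl | hy
      · refine ⟨hk k biprod.inl 0 ((e0 _).symm (Groth.L21.RR.oneSec X)), ?_⟩
        refine (Groth.L16.CohLinear.hmap_comp _ _ 0 _).symm.trans ?_
        rw [biprod.inl_desc]
        refine (e0 M).injective ?_
        rw [Groth.L21.RR.e0_hmap, AddEquiv.apply_symm_apply, hφ]
      · obtain ⟨z, hz⟩ := hψ y hy
        refine ⟨hk k biprod.inr 0 z, ?_⟩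
        refine (Groth.L16.CohLinear.hmap_comp _ _ 0 _).symm.trans ?_
        rw [biprod.inr_desc]
        exact hz
  obtain ⟨S, hS⟩ := Module.Finite.fg_top (R := k) (M := Coh.HH X M 0)
  obtain ⟨N, ψ, hN, hψ⟩ := key S
  have htop : ∀ x, x ∈ LinearMap.range (hk k ψ 0) := fun x => by
    have hle : Submodule.span k (S : Set (Coh.HH X M 0)) ≤ LinearMap.range (hk k ψ 0) := Submodule.span_le.2 hψ
    rw [hS] at hle
    exact hle trivial
  haveI : Epi ψ := (Groth.L21.Mod.epi_iff_stalk_surjective ψ).2 fun x v => by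
    obtain ⟨s, hs, -⟩ := Groth.L21.RR.exists_section_germ hsM x v
    obtain ⟨z, hz⟩ := htop ((e0 M).symm s)
    refine ⟨N.presheaf.germ ⊤ x trivial (e0 N z), ?_⟩
    refine (Groth.L21.RR.st_germ ψ (U := ⊤) (x := x) trivial (e0 N z)).trans ?_
    rw [← Groth.L21.RR.e0_hmap]
    exact (congrArg _ ((congrArg (e0 M) hz).trans ((e0 M).apply_symm_apply s))).trans hs
  haveI : StrongEpi ψ := strongEpi_of_epi ψ
  exact Groth.L16.CohSupport.isCoh_of_iso
    (Abelian.imageIsoImage (ψ ≫ i) ≪≫ (image.isoStrongEpiMono ψ i rfl).symm)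
    (Groth.L03.ShStab.Basic.coh_parts k hN hT (ψ ≫ i)).2.1

variable [IsIntegral X] [IsLocallyNoetherian X] (hd : topologicalKrullDim X ≤ 1) {I : X.IdealSheafData}
  (hD : FGA.IsEffCartier I)

include k in
theorem isCoh_twistSub {E : X.Modules} (hE : Coh.IsCoh E) :
    Coh.IsCoh ((ParSh.twistSub I E : Subobject E) : X.Modules) := by
  rw [twistSub_eq]
  exact Groth.L16.CohSupport.isCoh_of_iso (kernelSubobjectIso _).symm
    (Groth.L03.ShStab.Basic.coh_parts k hE (Groth.L13.GPar.isCoh_resD I hE) (proj I E)).1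

include k hd hD in
/-- Everything between `I · E` and `E` is coherent. -/
theorem isCoh_of_twistSub_le {E : X.Modules} (hE : Coh.IsCoh E) {A : Subobject E} (h : ParSh.twistSub I E ≤ A) :
    Coh.IsCoh (A : X.Modules) := by
  have hs := Groth.L13.GPar.suppClosed_resD (Groth.L13.GPar.suppClosed_quotMod hd hD) E
  let g := A.arrow ≫ proj I E
  have hI : Coh.IsCoh (Abelian.image g) :=
    isCoh_of_mono_suppClosed k (Abelian.image.ι g) (Groth.L13.GPar.isCoh_resD I hE) hs
  have hK : Coh.IsCoh (kernel g) := by
    have hpb : (Subobject.pullback A.arrow).obj (kernelSubobject (proj I E)) = kernelSubobject g :=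
      pullback_kernelSubobject _ _
    let B := kernelSubobject (proj I E)
    have hB : B ≤ A := (twistSub_eq I E).ge.trans h
    have sq := Subobject.isPullback A.arrow B
    let s := sq.lift (𝟙 (B : X.Modules)) (Subobject.ofLE B A hB) (by rw [Category.id_comp, Subobject.ofLE_arrow])
    haveI : Mono (Subobject.pullbackπ A.arrow B) := mono_of_mono_fac sq.w
    haveI : IsSplitEpi (Subobject.pullbackπ A.arrow B) := ⟨⟨s, sq.lift_fst _ _ _⟩⟩
    haveI : IsIso (Subobject.pullbackπ A.arrow B) := isIso_of_mono_of_epi _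
    refine Groth.L16.CohSupport.isCoh_of_iso ((asIso (Subobject.pullbackπ A.arrow B)).symm ≪≫
      Subobject.isoOfEq _ _ hpb ≪≫ kernelSubobjectIso g) ?_
    exact Groth.L16.CohSupport.isCoh_of_iso (Subobject.isoOfEq _ _ (twistSub_eq I E)) (isCoh_twistSub k hE)
  exact Groth.L17.CohClass.isCoh_of_shortExact _ (Groth.L16.Devissage.shortExact_kernel_image g) hK hI

end Groth.L13.ParBot
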