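/-
Parabolic degrees of images on curves.
-/
import Groth.Agent.L13.ParHilb.Bot
import Groth.Agent.L13.ParHilb.AtSum
import Groth.Agent.L22.Inter.Point

set_option autoImplicit false
set_option linter.style.haveILetI false
set_option linter.unusedSectionVars false
set_option backward.isDefEq.respectTransparency false

universe u

open CategoryTheory CategoryTheory.Limits AlgebraicGeometry

noncomputable section

namespace Groth.L13.ParCurve

open Groth.L21.RR (SuppClosed)
open Groth.L21.Bundle (rk rk_eq rk_add dg dg_eq dg_add isCoh_of_rank)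
open Groth.L13.ParBot (proj twistSub_eq)

variable {X : Scheme.{u}}

theorem pieceX_coinduced {E G : X.Modules} (𝓔 : ParSh.Str E) (p : E ⟶ G) [Epi p] (j : Fin (𝓔.l + 2)) :
    (𝓔.coinduced p).pieceX j = imageSubobject ((𝓔.pieceX j).arrow ≫ p) := by
  induction j using Fin.lastCases with
  | last => exact (𝓔.coinduced p).pieceX_last.trans (congrArg (fun A : Subobject E => imageSubobject (A.arrow ≫ p)) 𝓔.pieceX_last.symm)
  | cast j => exact ((𝓔.coinduced p).pieceX_castSucc j).trans (congrArg (fun A : Subobject E => imageSubobject (A.arrow ≫ p)) (𝓔.pieceX_castSucc j).symm)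

theorem at_coinduced {E G : X.Modules} (𝓔 : ParSh.Str E) (p : E ⟶ G) [Epi p] (a : ℝ) :
    (𝓔.coinduced p).at a = imageSubobject ((𝓔.at a).arrow ≫ p) := by
  obtain ⟨m, hm, hiff⟩ := Groth.L13.ParAt.at_cases 𝓔 a
  obtain ⟨m', hm', hiff'⟩ := Groth.L13.ParAt.at_cases (𝓔.coinduced p) a
  have hmm : m' = m := Groth.L13.ParAt.cases_unique (l := 𝓔.l) (p := fun j => a ≤ 𝓔.wt j) hiff' hiff
  rw [hm', hm, hmm, pieceX_coinduced]

/-- A factorisation of a parabolic homomorphism through subobjects. -/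
theorem exists_image_to_pullback {E F V V' : X.Modules} {A : Subobject E} {B : Subobject F} (φ : E ⟶ F)
    (h : B.Factors (A.arrow ≫ φ)) (q : E ⟶ V) (u : V ⟶ V') [Mono u] (ι : V' ⟶ F) (hfac : q ≫ u ≫ ι = φ) :
    ∃ t : (imageSubobject (A.arrow ≫ q) : X.Modules) ⟶ ((Subobject.pullback ι).obj B : X.Modules), Mono t := by
  let W := (Subobject.pullback ι).obj B
  have sq := Subobject.isPullback ι B
  let g : (A : X.Modules) ⟶ (W : X.Modules) := sq.lift (B.factorThru _ h) (A.arrow ≫ q ≫ u)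
    (by rw [Subobject.factorThru_arrow, Category.assoc, Category.assoc, hfac])
  have hle : imageSubobject ((A.arrow ≫ q) ≫ u) ≤ W :=
    imageSubobject_le _ g ((sq.lift_snd _ _ _).trans (Category.assoc _ _ _).symm)
  have hm : imageSubobject ((A.arrow ≫ q) ≫ u) = Subobject.mk ((imageSubobject (A.arrow ≫ q)).arrow ≫ u) := by
    rw [← imageSubobject_mono, ← Groth.L13.ParBot.imageSubobject_epi_comp (factorThruImageSubobject (A.arrow ≫ q)),
      imageSubobject_arrow_comp_assoc]
  exact ⟨(Subobject.underlyingIso ((imageSubobject (A.arrow ≫ q)).arrow ≫ u)).inv ≫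
    Subobject.ofLE _ _ (hm ▸ hle), mono_comp _ _⟩

variable (k : Type u) [Field k] [X.Over (Spec (CommRingCat.of k))]
  [IsProper (X ↘ Spec (CommRingCat.of k))] [IsIntegral X] [IsLocallyNoetherian X]
  (hreg : ∀ x : X, IsRegularLocalRing (X.presheaf.stalk x)) (hd : topologicalKrullDim X ≤ 1)
  {I : X.IdealSheafData} (hD : FGA.IsEffCartier I)

include k hreg hd in
theorem pullback_twistSub {V' F : X.Modules} (ι : V' ⟶ F) [Mono ι] {c : ℕ}
    (hc : FlatMod.IsFinLocFreeOfRank c (cokernel ι)) :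
    (Subobject.pullback ι).obj (ParSh.twistSub I F) = ParSh.twistSub I V' := by
  haveI : PreservesColimitsOfSize.{0, 0} (Groth.L13.GPar.R I) := preservesColimitsOfSize_shrink.{0, u, 0, u} _
  haveI : (Groth.L13.GPar.R I).PreservesZeroMorphisms := Functor.preservesZeroMorphisms_of_preserves_initial_object
  haveI : Mono ((Groth.L13.GPar.R I).map ι) :=
    (Groth.L13.GPar.shortExact_R I (Groth.L21.Bundle.shortExact_cokernel ι) hc).mono_f
  rw [twistSub_eq, twistSub_eq, Groth.L13.ParBot.pullback_kernelSubobject, Groth.L13.ParBot.proj_natural,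
    kernelSubobject_comp_mono]

attribute [local irreducible] Groth.L21.Bundle.dg Groth.L21.Bundle.rk

include hd hD in
theorem euler_twistSub {r : ℕ} {E : X.Modules} (hE : FlatMod.IsFinLocFreeOfRank r E) :
    Curv2.euler k X (ParSh.twistSub I E : X.Modules) =
      Curv2.euler k X E - r * Curv2.euler k X (ClSub.quotMod I) := by
  haveI := Groth.L13.ParBot.epi_proj I E
  have hs := Groth.L13.GPar.suppClosed_quotMod hd hD
  have h1 := Groth.L21.RR.euler_add k hd (Groth.L21.Bundle.shortExact_kernel (proj I E))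
    (Groth.L03.ShStab.Basic.coh_parts k (isCoh_of_rank hE) (Groth.L13.GPar.isCoh_resD I (isCoh_of_rank hE)) _).1
    (isCoh_of_rank hE) (Groth.L13.GPar.isCoh_resD I (isCoh_of_rank hE))
  have h2 := Groth.L13.GPar.finrank_fibD k hs hE
  rw [← Groth.L21.RR.euler_eq_h0_of_suppClosed k (Groth.L13.GPar.suppClosed_resD hs E)] at h2
  change Curv2.euler k X E = Curv2.euler k X (kernel (proj I E)) + Curv2.euler k X (ParSh.resD I E) at h1
  rw [twistSub_eq, Groth.L03.Euler.euler_iso (kernelSubobjectIso (proj I E))]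
  omega

include k hd hD in
theorem rk_of_twistSub_le {r : ℕ} {E : X.Modules} (hE : FlatMod.IsFinLocFreeOfRank r E) {A : Subobject E}
    (h : ParSh.twistSub I E ≤ A) : Coh.IsCoh (A : X.Modules) ∧ rk (A : X.Modules) = r := by
  have hcA := Groth.L13.ParBot.isCoh_of_twistSub_le k hd hD (isCoh_of_rank hE) h
  refine ⟨hcA, le_antisymm ((Groth.L21.Bundle.rk_le_of_mono A.arrow hcA (isCoh_of_rank hE)).trans_eq (rk_eq hE)) ?_⟩
  haveI := Groth.L13.ParBot.epi_proj I E
  have h1 : rk E = rk (kernel (proj I E)) + rk (ParSh.resD I E) :=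
    rk_add (Groth.L21.Bundle.shortExact_kernel (proj I E)) (isCoh_of_rank hE)
  have h0 : rk (ParSh.resD I E) = 0 := by
    haveI : Subsingleton ((ParSh.resD I E).presheaf.stalk (genericPoint X)) := by
      have h := Groth.L15.Ref.genericPoint_not_mem_range (D := I) hD
      rw [Scheme.IdealSheafData.range_subschemeι] at h
      by_contra hne
      exact h (Groth.L22.Inter.support_quotMod_subset I
        (Groth.L13.KcohNilp.support_tensor_subset E (ClSub.quotMod I) (a := genericPoint X) hne))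
    unfold rk; exact Module.finrank_zero_of_subsingleton
  have h2 : rk (kernel (proj I E)) ≤ rk (A : X.Modules) := by
    have hB : kernelSubobject (proj I E) ≤ A := (twistSub_eq I E).ge.trans h
    haveI : Mono ((kernelSubobjectIso (proj I E)).inv ≫ Subobject.ofLE _ _ hB) := mono_comp _ _
    exact Groth.L21.Bundle.rk_le_of_mono ((kernelSubobjectIso (proj I E)).inv ≫ Subobject.ofLE _ _ hB)
      (Groth.L03.ShStab.Basic.coh_parts k (isCoh_of_rank hE) (Groth.L13.GPar.isCoh_resD I (isCoh_of_rank hE)) _).1 hcA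
  rw [rk_eq hE] at h1
  omega

theorem parWt_eq {E : X.Modules} (𝓔 : ParSh.Str E) :
    𝓔.parWt k X = 𝓔.parSum (fun G => (Curv2.euler k X G : ℝ)) - (Curv2.euler k X (𝓔.bot : X.Modules) : ℝ) := by
  simp only [ParSh.Str.parWt, ParSh.Str.parSum]; ring

include hd hreg hD in
/-- The image with the quotient structure has degree at most the saturation with the induced one. -/
theorem parDeg_coinduced_le {E F V V' : X.Modules} {r'' c : ℕ}
    (𝓔 : ParSh.Str E) (h𝓔 : 𝓔.Along I) (𝓕 : ParSh.Str F) (h𝓕 : 𝓕.Along I) (φ : E ⟶ F)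
    (hφ : ParSh.IsParHom 𝓔 𝓕 φ) (q : E ⟶ V) [Epi q] (u : V ⟶ V') [Mono u] (ι : V' ⟶ F) [Mono ι]
    (hfac : q ≫ u ≫ ι = φ) (hV : FlatMod.IsFinLocFreeOfRank r'' V) (hV' : FlatMod.IsFinLocFreeOfRank r'' V')
    (hc : FlatMod.IsFinLocFreeOfRank c (cokernel ι)) :
    (𝓔.coinduced q).parDeg k X r'' ≤ (𝓕.induced ι).parDeg k X r'' := by
  have hbV : (𝓔.coinduced q).bot = ParSh.twistSub I V := by
    show imageSubobject (𝓔.bot.arrow ≫ q) = _
    rw [h𝓔]; exact Groth.L13.ParBot.image_twistSub I q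
  have hbV' : (𝓕.induced ι).bot = ParSh.twistSub I V' := by
    show (Subobject.pullback ι).obj 𝓕.bot = _
    rw [h𝓕]; exact pullback_twistSub k hreg hd ι hc
  have hsum : (𝓔.coinduced q).parSum (fun G => (Curv2.euler k X G : ℝ)) ≤
      (𝓕.induced ι).parSum (fun G => (Curv2.euler k X G : ℝ)) := by
    refine Groth.L13.ParAt.parSum_le _ _ _ fun a ha0 ha1 => ?_
    obtain ⟨hcA, hrA⟩ := rk_of_twistSub_le k hd hD hV (hbV ▸ (𝓔.coinduced q).bot_le_at a)
    obtain ⟨hcB, hrB⟩ := rk_of_twistSub_le k hd hD hV' (hbV' ▸ (𝓕.induced ι).bot_le_at a)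
    obtain ⟨t, ht⟩ := exists_image_to_pullback φ (hφ a ha0 ha1) q u ι hfac
    rw [at_coinduced] at hcA hrA ⊢
    rw [Groth.L13.ParAt.apply_at_induced] at hcB hrB ⊢
    have h := (Groth.L21.Bundle.dg_le_of_mono hd k t hcA hcB (hrA.trans hrB.symm)).1
    unfold dg at h
    rw [hrA, hrB] at h
    simp only [Curv2.deg] at h
    exact Int.cast_le.2 (by omega)
  have e1 := euler_twistSub k hd hD hV
  have e2 := euler_twistSub k hd hD hV'
  simp only [ParSh.Str.parDeg, parWt_eq, hbV, hbV', Curv2.deg, e1, e2]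
  push_cast
  linarith

include hd in
theorem parDeg_add {A E G : X.Modules} {a r b : ℕ} (i : A ⟶ E) (p : E ⟶ G) [Epi p] (w : i ≫ p = 0)
    (hS : (ShortComplex.mk i p w).ShortExact) (hA : FlatMod.IsFinLocFreeOfRank a A)
    (hE : FlatMod.IsFinLocFreeOfRank r E) (hG : FlatMod.IsFinLocFreeOfRank b G) (𝓔 : ParSh.Str E)
    (hcoh : ∀ j, Coh.IsCoh ((𝓔.pieceX j : Subobject E) : X.Modules)) :
    (𝓔.induced i).parDeg k X a + (𝓔.coinduced p).parDeg k X b = 𝓔.parDeg k X r := by
  haveI : Mono i := hS.mono_f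
  have hcA := isCoh_of_rank hA
  have hcE := isCoh_of_rank hE
  have hcG := isCoh_of_rank hG
  have key : ∀ j : Fin (𝓔.l + 2), ((Curv2.euler k X ((𝓔.induced i).pieceX j : X.Modules) : ℝ) +
      (Curv2.euler k X ((𝓔.coinduced p).pieceX j : X.Modules) : ℝ)) =
      (Curv2.euler k X (𝓔.pieceX j : X.Modules) : ℝ) := by
    intro j
    let Ej := 𝓔.pieceX j
    have sq := Subobject.isPullback i Ej
    have wz : Subobject.pullbackπ i Ej ≫ factorThruImageSubobject (Ej.arrow ≫ p) = 0 := by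
      rw [← cancel_mono (imageSubobject (Ej.arrow ≫ p)).arrow, Category.assoc, imageSubobject_arrow_comp,
        ← Category.assoc, sq.w, Category.assoc, w, Limits.comp_zero, Limits.zero_comp]
    haveI : Mono (Subobject.pullbackπ i Ej) := mono_of_mono_fac (sq.w)
    have hT : (ShortComplex.mk _ _ wz).ShortExact := by
      refine ShortComplex.ShortExact.mk (ShortComplex.exact_of_f_is_kernel _ ?_)
      refine KernelFork.IsLimit.ofι' _ wz fun {A} t ht => ?_
      have ht' : (t ≫ Ej.arrow) ≫ p = 0 := by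
        have := congrArg (· ≫ (imageSubobject (Ej.arrow ≫ p)).arrow) ht
        simpa using this
      exact ⟨sq.lift t (hS.exact.lift (t ≫ Ej.arrow) ht') (hS.exact.lift_f _ _).symm, sq.lift_fst _ _ _⟩
    have hIm : Coh.IsCoh ((imageSubobject (Ej.arrow ≫ p) : Subobject G) : X.Modules) :=
      Groth.L16.CohSupport.isCoh_of_iso ((Abelian.imageIsoImage (Ej.arrow ≫ p)) ≪≫ (imageSubobjectIso (Ej.arrow ≫ p)).symm)
        (Groth.L03.ShStab.Basic.coh_parts k (hcoh j) hcG (Ej.arrow ≫ p)).2.1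
    have hKer : Coh.IsCoh (kernel (factorThruImageSubobject (Ej.arrow ≫ p))) :=
      (Groth.L03.ShStab.Basic.coh_parts k (hcoh j) hIm _).1
    have hP : Coh.IsCoh (((Subobject.pullback i).obj Ej : Subobject A) : X.Modules) :=
      Groth.L16.CohSupport.isCoh_of_iso ((kernelIsKernel _).conePointUniqueUpToIso hT.fIsKernel) hKer
    have h := Groth.L21.RR.euler_add k hd hT hP (hcoh j) hIm
    have e1 : (𝓔.induced i).pieceX j = (Subobject.pullback i).obj Ej := by
      induction j using Fin.lastCases with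
      | last => exact (𝓔.induced i).pieceX_last.trans (congrArg _ 𝓔.pieceX_last.symm)
      | cast j => exact ((𝓔.induced i).pieceX_castSucc j).trans (congrArg _ (𝓔.pieceX_castSucc j).symm)
    rw [e1, pieceX_coinduced]
    exact_mod_cast h.symm
  have hwt : (𝓔.induced i).parWt k X + (𝓔.coinduced p).parWt k X = 𝓔.parWt k X := by
    simp only [ParSh.Str.parWt]
    show ∑ j : Fin (𝓔.l + 1), _ + ∑ j : Fin (𝓔.l + 1), _ = _
    rw [← Finset.sum_add_distrib]
    refine Finset.sum_congr rfl fun j _ => ?_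
    show 𝓔.wt j * _ + 𝓔.wt j * _ = _
    rw [← mul_add, ← add_sub_add_comm]
    congr 2
    · rw [Groth.L13.ParAt.piece_eq_pieceX_castSucc, Groth.L13.ParAt.piece_eq_pieceX_castSucc,
        Groth.L13.ParAt.piece_eq_pieceX_castSucc]
      exact key j.castSucc
    · exact key j.succ
  have hdeg : Curv2.deg k X A a + Curv2.deg k X G b = Curv2.deg k X E r := by
    have h1 : rk E = rk A + rk G := rk_add hS hcE
    have h2 : dg k E = dg k A + dg k G := dg_add hd k hS hcA hcE hcG
    rw [dg_eq k hA, dg_eq k hG, dg_eq k hE, h2]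
  simp only [ParSh.Str.parDeg, ← hwt, ← hdeg]
  push_cast
  ring

end Groth.L13.ParCurve

namespace Groth.L13.ParCurve

open Groth.L21.Bundle (rk rk_eq rk_add dg dg_eq dg_add isCoh_of_rank)

variable {X : Scheme.{u}} (k : Type u) [Field k] [X.Over (Spec (CommRingCat.of k))]
  [IsProper (X ↘ Spec (CommRingCat.of k))] [IsIntegral X] [IsLocallyNoetherian X]
  (hreg : ∀ x : X, IsRegularLocalRing (X.presheaf.stalk x)) (hd : topologicalKrullDim X ≤ 1)
  {I : X.IdealSheafData} (hD : FGA.IsEffCartier I)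

/-- The composite of the projection, a parabolic map and the inclusion is parabolic. -/
theorem isParHom_composite {F F' F'' : X.Modules} (𝓕 : ParSh.Str F) (i : F' ⟶ F) (p : F ⟶ F'') [Epi p]
    (φ : F'' ⟶ F') (hφ : ParSh.IsParHom (𝓕.coinduced p) (𝓕.induced i) φ) :
    ParSh.IsParHom 𝓕 𝓕 (p ≫ φ ≫ i) := by
  intro a ha0 ha1
  have h := hφ a ha0 ha1
  rw [Groth.L13.ParAt.apply_at_induced, at_coinduced] at h
  have sq := Subobject.isPullback i (𝓕.at a)
  refine (Subobject.factors_iff _ _).2 ⟨factorThruImageSubobject ((𝓕.at a).arrow ≫ p) ≫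
    ((Subobject.pullback i).obj (𝓕.at a)).factorThru _ h ≫ Subobject.pullbackπ i (𝓕.at a), ?_⟩
  show (_ ≫ _ ≫ _) ≫ (𝓕.at a).arrow = _
  rw [Category.assoc, Category.assoc, sq.w, Subobject.factorThru_arrow_assoc, Category.assoc,
    imageSubobject_arrow_comp_assoc, Category.assoc]

attribute [local irreducible] Groth.L21.Bundle.dg Groth.L21.Bundle.rk

include hd hreg hD in
/-- A parabolic square zero endomorphism of a stable parabolic bundle vanishes. -/
theorem endo_eq_zero {F : X.Modules} {r : ℕ} (hF : FlatMod.IsFinLocFreeOfRank r F) (𝓕 : ParSh.Str F)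
    (h𝓕 : 𝓕.Along I) (hst : ParSh.IsParStable k X 𝓕 r) (ψ : F ⟶ F) (hψ : ParSh.IsParHom 𝓕 𝓕 ψ)
    (hsq : ψ ≫ ψ = 0) : ψ = 0 := by
  by_contra hne
  have hcF := isCoh_of_rank hF
  obtain ⟨hcK, hcI, hcC⟩ := Groth.L03.ShStab.Basic.coh_parts k hcF hcF ψ
  have hK := Groth.L21.Bundle.locFree_of_mono hreg hd (kernel.ι ψ) hcK hF
  have hI := Groth.L21.Bundle.locFree_of_mono hreg hd (Abelian.image.ι ψ) hcI hF
  have hS := Groth.L13.GPar.shortExact_factorThruImage ψ
  have hr : r = rk (kernel ψ) + rk (Abelian.image ψ) := (rk_eq hF).symm.trans (rk_add hS hcF)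
  have hb0 : 0 < rk (Abelian.image ψ) := Nat.pos_of_ne_zero fun h0 => hne (by
    rw [← Abelian.image.fac ψ,
      (Groth.L21.Bundle.isZero_of_rank_zero (h0 ▸ hI)).eq_of_src (Abelian.image.ι ψ) 0, comp_zero])
  have ha0 : 0 < rk (kernel ψ) := Nat.pos_of_ne_zero fun h0 => hne (by
    haveI : Mono ψ := Preadditive.mono_of_isZero_kernel ψ (Groth.L21.Bundle.isZero_of_rank_zero (h0 ▸ hK))
    exact (cancel_mono ψ).1 (hsq.trans Limits.zero_comp.symm))
  obtain ⟨W, p, hp, hcKp, hKp0, hW⟩ := Groth.L21.Bundle.exists_locFree_quotient hreg hd hcC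
  let g := cokernel.π ψ ≫ p
  haveI : Epi g := epi_comp _ _
  have hcJ : Coh.IsCoh (kernel g) := (Groth.L03.ShStab.Basic.coh_parts k hcF (isCoh_of_rank hW) g).1
  have hJ := Groth.L21.Bundle.locFree_of_mono hreg hd (kernel.ι g) hcJ hF
  let t : Abelian.image ψ ⟶ kernel g := kernel.lift g (Abelian.image.ι ψ)
    (by show Abelian.image.ι ψ ≫ cokernel.π ψ ≫ p = 0; rw [← Category.assoc, kernel.condition, zero_comp])
  have ht : t ≫ kernel.ι g = Abelian.image.ι ψ := kernel.lift_ι _ _ _
  haveI : Mono t := mono_of_mono_fac ht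
  let S₂ : ShortComplex X.Modules := ShortComplex.mk (Abelian.image.ι ψ) (cokernel.π ψ) (kernel.condition _)
  have hS₂ : S₂.ShortExact := { exact := ShortComplex.exact_of_f_is_kernel _ (kernelIsKernel (cokernel.π ψ)) }
  have hrF : rk F = rk (Abelian.image ψ) + rk (cokernel ψ) := rk_add hS₂ hcF
  have hrF' : rk F = rk (kernel g) + rk W := rk_add (Groth.L21.Bundle.shortExact_kernel g) hcF
  have hrk : rk (kernel g) = rk (Abelian.image ψ) := by
    have := rk_eq hW
    omega
  rw [hrk] at hJ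
  haveI : Mono (cokernel.desc (kernel.ι g) g (kernel.condition g)) :=
    inferInstanceAs (Mono (Abelian.factorThruCoimage g))
  have hc := Groth.L21.Bundle.locFree_of_mono hreg hd (cokernel.desc (kernel.ι g) g (kernel.condition g))
    ((Groth.L03.ShStab.Basic.coh_parts k hcJ hcF (kernel.ι g)).2.2) hW
  have h1 := parDeg_coinduced_le k hreg hd hD 𝓕 h𝓕 𝓕 h𝓕 ψ hψ (Abelian.factorThruImage ψ) t (kernel.ι g)
    (by rw [ht]; exact Abelian.image.fac ψ) hI hJ hc
  have hcoh : ∀ j, Coh.IsCoh ((𝓕.pieceX j : Subobject F) : X.Modules) := fun j =>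
    Groth.L13.ParBot.isCoh_of_twistSub_le k hd hD hcF (h𝓕.ge.trans (𝓕.bot_le_pieceX j))
  have h2 := parDeg_add k hd (kernel.ι ψ) (Abelian.factorThruImage ψ) _ hS hK hF hI 𝓕 hcoh
  have h3 := hst _ _ (kernel.ι ψ) inferInstance ha0 (by omega) hK
  have h4 := hst _ _ (kernel.ι g) inferInstance hb0 (by omega) hJ
  have hr' : (r : ℝ) = (rk (kernel ψ) : ℝ) + (rk (Abelian.image ψ) : ℝ) := by rw [hr]; push_cast; rfl
  have hr0 : (0 : ℝ) ≤ (r : ℝ) := Nat.cast_nonneg r
  have h5 := mul_le_mul_of_nonneg_right h1 hr0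
  rw [← h2] at h3 h4
  rw [hr'] at h3 h4 h5
  nlinarith

end Groth.L13.ParCurve
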