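/-
The first modified parabolic Hilbert polynomial of a filtered submodule.
-/
import Groth.Agent.L13.ParHilb.Basic
import Groth.Agent.L03.ShStab.Quot

set_option autoImplicit false
set_option linter.style.haveILetI false
set_option linter.unusedSectionVars false

universe u

open CategoryTheory CategoryTheory.Limits AlgebraicGeometry Polynomial StabCat

noncomputable section

namespace Groth.L13.ParHilb

variable {X : Scheme.{u}} {k : Type u} [Field k] [X.Over (Spec (CommRingCat.of k))]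
  [IsProper (X ↘ Spec (CommRingCat.of k))] {L : X.Modules}

theorem rpoly_eval (P : ℚ[X]) (m : ℕ) :
    (W4swparbununimod.rpoly P).eval (m : ℝ) = ((P.eval (m : ℚ) : ℚ) : ℝ) := by
  rw [Polynomial.eval_map, ← map_natCast (Rat.castHom ℝ) m, Polynomial.eval₂_at_apply]
  rfl

/-- Comparison of a submodule of a semistable quotient with the quotient. -/
theorem quot_le (hL : CohB1.IsAmple L) {E : X.Modules} (hE : Coh.IsCoh E) (𝓔 : ParSh.Str E)
    (hcoh : ∀ j, Coh.IsCoh ((𝓔.pieceX j : Subobject E) : X.Modules)) {d : ℕ} {W : X.Modules} (ι : W ⟶ E)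
    (hW : Coh.IsCoh W) (j : Fin (𝓔.l + 2))
    (hq : _root_.ShStab.IsSemistable k X L (cokernel (𝓔.pieceX j).arrow) d) {K H : ℚ[X]}
    (hK : _root_.ShStab.IsHilbPoly k X L (cokernel ((𝓔.induced ι).pieceX j).arrow) K)
    (hH : _root_.ShStab.IsHilbPoly k X L (cokernel (𝓔.pieceX j).arrow) H) :
    ∀ᶠ m : ℕ in Filter.atTop, K.eval (m : ℚ) ≤ alpha d K / alpha d H * H.eval (m : ℚ) := by
  have hcK := isCoh_cokernel k hW (isCoh_pieceX_induced k hE 𝓔 hcoh ι hW j)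
  by_cases hz : IsZero (cokernel ((𝓔.induced ι).pieceX j).arrow)
  · rw [Groth.L03.Euler.isHilbPoly_unique hK (Groth.L03.Euler.isHilbPoly_zero hL.1 hz)]
    exact Filter.Eventually.of_forall fun m => by simp [alpha]
  let A := (Subobject.pullback ι).obj (𝓔.pieceX j)
  have hA : (𝓔.induced ι).pieceX j = A := pieceX_induced 𝓔 ι j
  rw [hA] at hK hcK hz
  have sq := (Subobject.isPullback ι (𝓔.pieceX j)).flip
  haveI := Abelian.mono_cokernel_map_of_isPullback sq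
  let κ : cokernel A.arrow ⟶ cokernel (𝓔.pieceX j).arrow := cokernel.map _ _ _ _ sq.w
  have hαK := Groth.L03.ShStab.Basic.alpha_pos_sub hL hq.2.2.1 κ hcK hz hK
  have hle := Groth.L03.ShStab.Schur.red_le_of_mono hL hq κ hcK hz hK hH
  obtain ⟨N, hN⟩ := Groth.L03.ShStab.PolyOrd.polyLE_smul hαK.le hle
  refine Filter.eventually_atTop.2 ⟨N, fun m hm => ?_⟩
  have h := hN m hm
  rw [Groth.L03.ShStab.PolyOrd.smul_red hαK.ne'] at h
  simp only [red, eval_smul, smul_eq_mul] at h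
  rwa [div_eq_mul_inv, mul_assoc]

/-- With semistable quotients, the first modified polynomial is at most the parabolic one. -/
theorem parPolyOne_le (hL : CohB1.IsAmple L) {E : X.Modules} (hE : Coh.IsCoh E) (𝓔 : ParSh.Str E)
    (hcoh : ∀ j, Coh.IsCoh ((𝓔.pieceX j : Subobject E) : X.Modules)) {d : ℕ}
    (H : Fin (𝓔.l + 2) → ℚ[X]) (hH : ∀ j, _root_.ShStab.IsHilbPoly k X L (cokernel (𝓔.pieceX j).arrow) (H j))
    (hq : ∀ j : Fin (𝓔.l + 1), _root_.ShStab.IsSemistable k X L (cokernel (𝓔.pieceX j.succ).arrow) (d - 1))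
    {W : X.Modules} (ι : W ⟶ E) (hW : Coh.IsCoh W) {Q : ℚ[X]} (QH : Fin (𝓔.l + 2) → ℚ[X])
    (hQH : ∀ j, _root_.ShStab.IsHilbPoly k X L (cokernel ((𝓔.induced ι).pieceX j).arrow) (QH j)) :
    ∀ᶠ m : ℕ in Filter.atTop, (W4swparbununimod.parPolyOne 𝓔 d Q QH H).eval (m : ℝ) ≤
      (W4swparbununimod.parPoly (𝓔.induced ι) fun j => Q - QH j).eval (m : ℝ) := by
  have h := Filter.eventually_all.2 fun j : Fin (𝓔.l + 1) =>
    quot_le hL hE 𝓔 hcoh ι hW j.succ (hq j) (hQH j.succ) (hH j.succ)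
  filter_upwards [h] with m hm
  rw [parPoly_eq (𝓔.induced ι) Q (fun j => Q - QH j) QH (fun _ => rfl) (hilb_quot_zero hL (𝓔.induced ι) (hQH 0))]
  simp only [W4swparbununimod.parPolyOne, eval_sub, eval_finsetSum, eval_mul, eval_C, rpoly_eval]
  refine sub_le_sub_left (Finset.sum_le_sum fun j _ => ?_) _
  rw [mul_assoc]
  refine mul_le_mul_of_nonneg_left ?_ (wtX_step_nonneg 𝓔 j)
  exact_mod_cast hm j

/-- The pieces of an induced filtration have the expected polynomials. -/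
theorem hilb_piece_induced (hL : CohB1.IsAmple L) {E : X.Modules} (hE : Coh.IsCoh E) (𝓔 : ParSh.Str E)
    (hcoh : ∀ j, Coh.IsCoh ((𝓔.pieceX j : Subobject E) : X.Modules)) {W : X.Modules} (ι : W ⟶ E)
    (hW : Coh.IsCoh W) {Q : ℚ[X]} (hQ : _root_.ShStab.IsHilbPoly k X L W Q) (QH : Fin (𝓔.l + 2) → ℚ[X])
    (hQH : ∀ j, _root_.ShStab.IsHilbPoly k X L (cokernel ((𝓔.induced ι).pieceX j).arrow) (QH j))
    (j : Fin (𝓔.l + 2)) :
    _root_.ShStab.IsHilbPoly k X L (((𝓔.induced ι).pieceX j : Subobject W) : X.Modules) (Q - QH j) := by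
  have hc := isCoh_pieceX_induced k hE 𝓔 hcoh ι hW j
  obtain ⟨PA, hPA⟩ := exists_hilb' k hL hc
  rwa [← piece_eq_sub hL hW hc hQ hPA (hQH j)]

/-- Hilbert polynomials grow along monomorphisms. -/
theorem eval_le_of_mono (hL : CohB1.IsAmple L) {M N : X.Modules} (f : M ⟶ N) [Mono f] (hM : Coh.IsCoh M)
    (hN : Coh.IsCoh N) {P Q : ℚ[X]} (hP : _root_.ShStab.IsHilbPoly k X L M P)
    (hQ : _root_.ShStab.IsHilbPoly k X L N Q) : ∀ᶠ m : ℕ in Filter.atTop, P.eval (m : ℚ) ≤ Q.eval (m : ℚ) := by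
  have hC := (Groth.L03.ShStab.Basic.coh_parts k hM hN f).2.2
  obtain ⟨R, hR⟩ := exists_hilb' k hL hC
  obtain ⟨e, he⟩ := Groth.L03.Euler.exists_dim_bound k X
  have h1 := Groth.L03.ShStab.Basic.hilb_cokernel hL hM hN f hP hQ hR
  have h2 := Groth.L03.ShStab.Basic.nonneg_leadingCoeff hL hC
    ((Topology.IsInducing.subtypeVal.topologicalKrullDim_le).trans he) hR
  refine Filter.eventually_atTop.2 (Groth.L03.ShStab.PolyOrd.polyLE_iff.2 ?_)
  rwa [h1, add_sub_cancel_left]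

/-- The parabolic polynomial grows from a submodule to a larger one, for the induced filtrations. -/
theorem parPoly_induced_mono (hL : CohB1.IsAmple L) {E : X.Modules} (hE : Coh.IsCoh E) (𝓔 : ParSh.Str E)
    (hcoh : ∀ j, Coh.IsCoh ((𝓔.pieceX j : Subobject E) : X.Modules)) {W W' : X.Modules} (t : W ⟶ W') [Mono t]
    (ι : W ⟶ E) (ι' : W' ⟶ E) (ht : t ≫ ι' = ι) (hW : Coh.IsCoh W) (hW' : Coh.IsCoh W') {Q Q' : ℚ[X]}
    (hQ : _root_.ShStab.IsHilbPoly k X L W Q) (hQ' : _root_.ShStab.IsHilbPoly k X L W' Q')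
    (QX QX' : Fin (𝓔.l + 2) → ℚ[X])
    (hQX : ∀ j, _root_.ShStab.IsHilbPoly k X L (((𝓔.induced ι).pieceX j : Subobject W) : X.Modules) (QX j))
    (hQX' : ∀ j, _root_.ShStab.IsHilbPoly k X L (((𝓔.induced ι').pieceX j : Subobject W') : X.Modules) (QX' j)) :
    ∀ᶠ m : ℕ in Filter.atTop, (W4swparbununimod.parPoly (𝓔.induced ι) QX).eval (m : ℝ) ≤
      (W4swparbununimod.parPoly (𝓔.induced ι') QX').eval (m : ℝ) := by
  obtain ⟨K, hK, hKe, hK0⟩ := exists_quot_hilb k hL hW (𝓔.induced ι)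
    (fun j => isCoh_pieceX_induced k hE 𝓔 hcoh ι hW j) hQ hQX
  obtain ⟨K', hK', hKe', hK0'⟩ := exists_quot_hilb k hL hW' (𝓔.induced ι')
    (fun j => isCoh_pieceX_induced k hE 𝓔 hcoh ι' hW' j) hQ' hQX'
  have hj : ∀ j : Fin (𝓔.l + 1), ∀ᶠ m : ℕ in Filter.atTop, (QX j.succ).eval (m : ℚ) ≤ (QX' j.succ).eval (m : ℚ) := by
    intro j
    have hA : (𝓔.induced ι).pieceX j.succ = (Subobject.pullback t).obj ((𝓔.induced ι').pieceX j.succ) :=
      (pieceX_induced 𝓔 ι j.succ).trans (((congrArg (fun g => (Subobject.pullback g).obj _) ht).symm.trans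
        (Subobject.pullback_comp t ι' _)).trans (congrArg _ (pieceX_induced 𝓔 ι' j.succ).symm))
    let s := Subobject.pullbackπ t ((𝓔.induced ι').pieceX j.succ)
    haveI : Mono s := mono_of_mono_fac (Subobject.isPullback t _).w
    exact eval_le_of_mono hL ((Subobject.isoOfEq _ _ hA).hom ≫ s)
      (isCoh_pieceX_induced k hE 𝓔 hcoh ι hW _) (isCoh_pieceX_induced k hE 𝓔 hcoh ι' hW' _) (hQX _) (hQX' _)
  filter_upwards [Filter.eventually_all.2 hj, eval_le_of_mono hL t hW hW' hQ hQ'] with m hm hm0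
  rw [parPoly_eq (𝓔.induced ι) Q QX K hKe hK0, parPoly_eq (𝓔.induced ι') Q' QX' K' hKe' hK0']
  simp only [eval_sub, eval_finsetSum, eval_mul, eval_C, rpoly_eval]
  show ((Q.eval (m : ℚ) : ℚ) : ℝ) - ∑ j : Fin (𝓔.l + 1), (𝓔.wtX j.succ - 𝓔.wtX j.castSucc) * (((K j.succ).eval (m : ℚ) : ℚ) : ℝ) ≤
    ((Q'.eval (m : ℚ) : ℚ) : ℝ) - ∑ j : Fin (𝓔.l + 1), (𝓔.wtX j.succ - 𝓔.wtX j.castSucc) * (((K' j.succ).eval (m : ℚ) : ℚ) : ℝ)
  have h0 : (0 : ℝ) ≤ 𝓔.wtX 0 := ((𝓔.wtX_castSucc 0).symm ▸ 𝓔.wt_nonneg :)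
  have h1 : ∑ j : Fin (𝓔.l + 1), (𝓔.wtX j.succ - 𝓔.wtX j.castSucc) * (((K' j.succ).eval (m : ℚ) : ℚ) : ℝ) -
      ∑ j : Fin (𝓔.l + 1), (𝓔.wtX j.succ - 𝓔.wtX j.castSucc) * (((K j.succ).eval (m : ℚ) : ℚ) : ℝ) ≤
      (1 - 𝓔.wtX 0) * (((Q'.eval (m : ℚ) : ℚ) : ℝ) - ((Q.eval (m : ℚ) : ℚ) : ℝ)) := by
    rw [← Finset.sum_sub_distrib, ← sum_wtX_step 𝓔, Finset.sum_mul]
    refine Finset.sum_le_sum fun j _ => ?_
    rw [← mul_sub]
    refine mul_le_mul_of_nonneg_left ?_ (wtX_step_nonneg 𝓔 j)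
    have := hm j
    rw [hKe j.succ, hKe' j.succ, eval_sub, eval_sub] at this
    have h : (K' j.succ).eval (m : ℚ) - (K j.succ).eval (m : ℚ) ≤ Q'.eval (m : ℚ) - Q.eval (m : ℚ) := by linarith
    exact_mod_cast h
  have h2 : ((Q.eval (m : ℚ) : ℚ) : ℝ) ≤ ((Q'.eval (m : ℚ) : ℚ) : ℝ) := by exact_mod_cast hm0
  nlinarith

open Groth.L03.ShStab Groth.L03.ShStab.Bridge in
/-- A submodule of a pure module lies in a saturated one of the same multiplicity. -/
theorem exists_saturation_sub (hL : CohB1.IsAmple L) {E : X.Modules} (hE : Coh.IsCoh E) {d : ℕ}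
    (hp : _root_.ShStab.IsPure X E d) {W : X.Modules} (ι : W ⟶ E) [Mono ι] (hW : Coh.IsCoh W) {Q : ℚ[X]}
    (hQ : _root_.ShStab.IsHilbPoly k X L W Q) :
    ∃ (W' : X.Modules) (t : W ⟶ W') (ι' : W' ⟶ E) (_ : Mono t) (_ : Mono ι') (Q' : ℚ[X]), t ≫ ι' = ι ∧
      Coh.IsCoh W' ∧ _root_.ShStab.IsHilbPoly k X L W' Q' ∧ alpha d Q' = alpha d Q ∧
      _root_.ShStab.IsPure X (cokernel ι') d := by
  haveI : IsLocallyNoetherian X := Basic.locallyNoetherian (k := k)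
  haveI : CompactSpace X := QuasiCompact.compactSpace_of_compactSpace (X ↘ Spec (CommRingCat.of k))
  haveI : AlgebraicGeometry.IsNoetherian X := {}
  have hd := Basic.dim_le_of_isPure hE hp
  obtain ⟨a, ha, hqa, -, -⟩ := Filt.exists_mem (k := k) hL hE hd W ι hW hQ
  obtain ⟨c, hac, hc0, hcp⟩ := (stabData (k := k) hL hE hd).exists_saturation a
  have heq : (stabData (k := k) hL hE hd).av ⊥ a = (stabData (k := k) hL hE hd).av ⊥ c := by
    rw [← (stabData (k := k) hL hE hd).av_add ⊥ a c, hc0, add_zero]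
  have hle : Subobject.mk ι ≤ c.1 := ha ▸ hac
  refine ⟨_, Subobject.ofMkLE ι c.1 hle, c.1.arrow, inferInstance, inferInstance, Bridge.hp (k := k) hL hE hd c,
    Subobject.ofMkLE_arrow hle, c.2, hp_spec hL hE hd c, ?_, ?_⟩
  · simpa only [StabData.av, hqa, Filt.q_bot] using heq.symm
  · obtain ⟨e⟩ := Filt.nonempty_qt_top (E := E) c.1
    exact Basic.isPure_sub ((isPure_qt_iff (k := k) hL hE hd (a := c) (b := ⊤) le_top).2 hcp) e.inv

end Groth.L13.ParHilb
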